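import Groth.Agent.HenselLib.KummerSheaf
import Groth.Agent.Desc19b.EtQCoh.Ga
import Groth.Agent.Et18.FLC
import Groth.Agent.QCohLoc.Unit

/-!
# The Artin–Schreier sequence on the small étale site
-/

set_option autoImplicit false
set_option linter.all false
set_option backward.isDefEq.respectTransparency.types false
set_option backward.isDefEq.respectTransparency false
set_option maxHeartbeats 1000000
universe u

open CategoryTheory CategoryTheory.Limits AlgebraicGeometry Opposite Polynomial CategoryTheory.Abelian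
open Groth.Agent.HenselLib.Kummer (str mem_of_points)

namespace Groth.Agent.EtASLib

variable {S : Scheme.{u}}

/-- A function as a section of `G_a`. -/
noncomputable def sec {U : S.Etale} (v : Γ(U.left, ⊤)) : EtCoh.sect (EtCoh.Ga S) U := ULift.up v

lemma sec_injective {U : S.Etale} : Function.Injective (sec (U := U)) :=
  fun _ _ h => congrArg ULift.down h

lemma map_sec {U V : S.Etale} (g : V ⟶ U) (v : Γ(U.left, ⊤)) :
    (EtCoh.Ga S).obj.map g.op (sec v) = sec (g.left.appTop.hom v) := rfl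

lemma natCast_eq_zero {p : ℕ} (hp : (p : Γ(S, ⊤)) = 0) (U : S.Etale) : (p : Γ(U.left, ⊤)) = 0 := by
  have := congrArg (str U).appTop.hom hp
  rwa [map_natCast, map_zero] at this

theorem add_pow_p {R : Type*} [CommRing R] {p : ℕ} (hp : p.Prime) (h : (p : R) = 0) (a b : R) :
    (a + b) ^ p = a ^ p + b ^ p := by
  obtain ⟨r, hr⟩ := exists_add_pow_prime_eq hp a b
  rw [hr, h, zero_mul, zero_mul, zero_mul, add_zero]

variable (p : ℕ) [hp : Fact p.Prime] (h0 : (p : Γ(S, ⊤)) = 0)

/-- `v ↦ v ^ p - v`. -/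
noncomputable def asHom (U : S.Etale) : Γ(U.left, ⊤) →+ Γ(U.left, ⊤) :=
  AddMonoidHom.mk' (fun v => v ^ p - v) fun a b => by
    rw [add_pow_p hp.out (natCast_eq_zero h0 U)]; ring

/-- The Artin–Schreier endomorphism. -/
noncomputable def asMap : EtCoh.Ga S ⟶ EtCoh.Ga S :=
  ⟨{ app := fun U => AddCommGrpCat.ofHom
      (AddEquiv.ulift.symm.toAddMonoidHom.comp ((asHom p h0 U.unop).comp AddEquiv.ulift.toAddMonoidHom))
     naturality := fun U V g => by
      refine ConcreteCategory.hom_ext _ _ fun t => ?_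
      obtain ⟨(v : Γ(U.unop.left, ⊤))⟩ := t
      show sec ((g.unop.left.appTop.hom v) ^ p - g.unop.left.appTop.hom v) =
        sec (g.unop.left.appTop.hom (v ^ p - v))
      rw [map_sub, map_pow] }⟩

lemma asMap_sec (U : S.Etale) (v : Γ(U.left, ⊤)) :
    (asMap p h0).hom.app (op U) (sec v) = sec (v ^ p - v) := rfl

theorem epi_asMap : Epi (asMap p h0) := by
  rw [← Sheaf.isLocallySurjective_iff_epi']
  refine ⟨fun {U} t => mem_of_points U _ fun x => ?_⟩
  obtain ⟨(v : Γ(U.left, ⊤))⟩ := t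
  haveI : AlgebraicGeometry.Etale U.hom := U.prop
  obtain ⟨O, hO, hxO, -⟩ := exists_isAffineOpen_mem_and_subset (X := U.left) (x := x) (U := ⊤) trivial
  haveI : IsAffine (O : Scheme.{u}) := hO
  let W : Scheme.{u} := O
  let k := AlgebraicClosure (W.residueField ⟨x, hxO⟩)
  let q : Spec (CommRingCat.of k) ⟶ W :=
    Spec.map (CommRingCat.ofHom (algebraMap (W.residueField ⟨x, hxO⟩) k)) ≫ W.fromSpecResidueField ⟨x, hxO⟩
  let ev : Γ(W, ⊤) ⟶ CommRingCat.of k := q.appTop ≫ (Scheme.ΓSpecIso (CommRingCat.of k)).hom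
  let a : Γ(W, ⊤) := O.ι.appTop.hom v
  have hpW : (p : Γ(W, ⊤)) = 0 := by
    have := congrArg O.ι.appTop.hom (natCast_eq_zero h0 U)
    rwa [map_natCast, map_zero] at this
  have hpk : (p : k) = 0 := by
    have := congrArg ev.hom hpW
    rwa [map_natCast, map_zero] at this
  have hdeg : (X - C (-a) : Γ(W, ⊤)[X]) = X + C a := by rw [map_neg, sub_neg_eq_add]
  have hmon : (X ^ p - (X + C a) : Γ(W, ⊤)[X]).Monic := monic_X_pow_sub (by
    refine lt_of_le_of_lt (degree_add_le _ _) (lt_of_le_of_lt (max_le degree_X_le (degree_C_le.trans zero_le_one)) ?_)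
    exact_mod_cast hp.out.one_lt)
  have hder : derivative (X ^ p - (X + C a) : Γ(W, ⊤)[X]) = -1 := by
    rw [derivative_sub, derivative_X_pow, derivative_add, derivative_X, derivative_C, hpW, map_zero, zero_mul,
      zero_sub, add_zero]
  let P : StandardEtalePair Γ(W, ⊤) :=
    ⟨X ^ p - (X + C a), hmon, derivative (X ^ p - (X + C a)), 1, 0, 1, by simp⟩
  letI : Algebra Γ(W, ⊤) k := ev.hom.toAlgebra
  obtain ⟨r, hr⟩ := IsAlgClosed.exists_root (Polynomial.map (algebraMap Γ(W, ⊤) k) (X ^ p - (X + C a))) (by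
    rw [hmon.degree_map]
    refine fun h => ?_
    have h1 : (X ^ p - (X + C a) : Γ(W, ⊤)[X]).natDegree = 0 := by rw [natDegree_eq_zero_iff_degree_le_zero, h]
    have h2 : (X ^ p - (X + C a) : Γ(W, ⊤)[X]).natDegree = p := by
      haveI : Nontrivial Γ(W, ⊤) := ev.hom.domain_nontrivial
      apply natDegree_eq_of_degree_eq_some
      rw [degree_sub_eq_left_of_degree_lt, degree_X_pow]
      rw [degree_X_pow]
      exact lt_of_le_of_lt ((degree_add_le _ _).trans (max_le degree_X_le (degree_C_le.trans zero_le_one)))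
        (by exact_mod_cast hp.out.one_lt)
    exact hp.out.ne_zero (h2.symm.trans h1))
  have hP : P.HasMap (S := k) r := by
    refine ⟨?_, isUnit_iff_ne_zero.mpr ?_⟩
    · show aeval r (X ^ p - (X + C a)) = 0
      rw [aeval_def, ← eval_map]; exact hr
    · show aeval r (derivative (X ^ p - (X + C a))) ≠ 0
      rw [hder, map_neg, map_one]
      exact neg_ne_zero.2 one_ne_zero
  let B := CommRingCat.of P.Ring
  let α : Γ(W, ⊤) ⟶ B := CommRingCat.ofHom (algebraMap Γ(W, ⊤) P.Ring)
  let χ : B ⟶ CommRingCat.of k := CommRingCat.ofHom (P.lift r hP).toRingHom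
  have hχ : α ≫ χ = ev := by ext c; exact (P.lift r hP).commutes c
  haveI : AlgebraicGeometry.Etale (Spec.map α) :=
    (HasRingHomProperty.Spec_iff (P := @AlgebraicGeometry.Etale)).mpr (RingHom.etale_algebraMap.mpr inferInstance)
  let f : Spec B ⟶ W := Spec.map α ≫ W.isoSpec.inv
  haveI : AlgebraicGeometry.Etale f := by
    haveI : AlgebraicGeometry.Etale (Spec.map α ≫ W.isoSpec.inv) := inferInstance
    assumption
  haveI : AlgebraicGeometry.Etale (O.ι ≫ U.hom) :=
    MorphismProperty.comp_mem @AlgebraicGeometry.Etale O.ι U.hom inferInstance inferInstance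
  haveI : AlgebraicGeometry.Etale (f ≫ O.ι ≫ U.hom) :=
    MorphismProperty.comp_mem @AlgebraicGeometry.Etale f _ inferInstance inferInstance
  let V : S.Etale := Scheme.Etale.mk (f ≫ O.ι ≫ U.hom)
  let g : V ⟶ U := MorphismProperty.Over.homMk (f ≫ O.ι) (Category.assoc _ _ _) trivial
  have hinv : W.isoSpec.inv.appTop = (Scheme.ΓSpecIso Γ(W, ⊤)).inv := by
    have h : W.isoSpec.inv.appTop ≫ W.isoSpec.hom.appTop = 𝟙 _ := by
      rw [← Scheme.Hom.comp_appTop, Iso.hom_inv_id, Scheme.Hom.id_appTop]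
    rw [show W.isoSpec.hom = W.toSpecΓ from rfl, Scheme.toSpecΓ_appTop] at h
    exact (Iso.comp_hom_eq_id (Scheme.ΓSpecIso Γ(W, ⊤))).mp h
  have hf : f.appTop = α ≫ (Scheme.ΓSpecIso B).inv := by
    rw [Scheme.Hom.comp_appTop, hinv]
    exact (Scheme.ΓSpecIso_inv_naturality α).symm
  have hq : Spec.map χ ≫ f = q := by
    refine ext_of_isAffine ?_
    rw [Scheme.Hom.comp_appTop, hf, Category.assoc, ← Scheme.ΓSpecIso_inv_naturality χ,
      ← Category.assoc, hχ]
    simp [ev]
  refine ⟨V, g, Spec.map χ (IsLocalRing.closedPoint k), ⟨sec ((Scheme.ΓSpecIso B).inv.hom P.X), ?_⟩, ?_⟩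
  · show (asMap p h0).hom.app (op V) (sec _) = sec (g.left.appTop.hom v)
    rw [asMap_sec]
    congr 1
    have h1 : P.X ^ p - P.X = algebraMap Γ(W, ⊤) P.Ring a := by
      have := P.hasMap_X.1
      rw [show P.f = X ^ p - (X + C a) from rfl, map_sub, map_add, aeval_X_pow, aeval_X, aeval_C] at this
      linear_combination this
    show _ = (f ≫ O.ι).appTop.hom v
    rw [Scheme.Hom.comp_appTop, hf]
    refine (congrArg (· - (Scheme.ΓSpecIso B).inv.hom P.X) ((Scheme.ΓSpecIso B).inv.hom.map_pow P.X p).symm).trans ?_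
    refine ((Scheme.ΓSpecIso B).inv.hom.map_sub _ _).symm.trans ?_
    exact congrArg (Scheme.ΓSpecIso B).inv.hom h1
  · show (Spec.map χ ≫ f ≫ O.ι) _ = x
    rw [← Category.assoc, hq]
    simp only [q, Scheme.Hom.comp_apply]
    erw [Scheme.fromSpecResidueField_apply]
    rfl

/-- `ℤ/p → Γ(U, O)`. -/
noncomputable def castU (U : S.Etale) : ZMod p →+ Γ(U.left, ⊤) :=
  ZMod.lift p ⟨Int.castAddHom Γ(U.left, ⊤), by
    show ((p : ℤ) : Γ(U.left, ⊤)) = 0
    rw [Int.cast_natCast, natCast_eq_zero h0]⟩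

lemma castU_intCast (U : S.Etale) (m : ℤ) : castU p h0 U (m : ZMod p) = (m : Γ(U.left, ⊤)) :=
  ZMod.lift_coe _ _ m

/-- `i ↦ i` as a map of presheaves `ℤ/p → G_a`. -/
noncomputable def constHom :
    (Functor.const S.Etaleᵒᵖ).obj (AddCommGrpCat.of (ULift.{u + 1} (ZMod p))) ⟶ (EtCoh.Ga S).obj where
  app U := AddCommGrpCat.ofHom (AddEquiv.ulift.symm.toAddMonoidHom.comp
    ((castU p h0 U.unop).comp AddEquiv.ulift.toAddMonoidHom))
  naturality U V g := by
    refine ConcreteCategory.hom_ext _ _ fun t => ?_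
    obtain ⟨t⟩ := t
    obtain ⟨m, rfl⟩ := ZMod.intCast_surjective t
    show sec (castU p h0 V.unop (m : ZMod p)) = sec (g.unop.left.appTop.hom (castU p h0 U.unop (m : ZMod p)))
    rw [castU_intCast, castU_intCast]
    exact congrArg sec (map_intCast g.unop.left.appTop.hom m).symm

lemma constHom_apply (U : S.Etale) (m : ℤ) :
    (constHom p h0).app (op U) (ULift.up (m : ZMod p)) = sec (m : Γ(U.left, ⊤)) := by
  show sec (castU p h0 U (m : ZMod p)) = _
  rw [castU_intCast]

theorem nonempty_kernel_iso : Nonempty (EtCoh.const S (ZMod p) ≅ kernel (asMap p h0)) := by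
  let J := S.smallEtaleTopology
  let P := (Functor.const S.Etaleᵒᵖ).obj (AddCommGrpCat.of (ULift.{u + 1} (ZMod p)))
  let ψ : EtCoh.const S (ZMod p) ⟶ EtCoh.Ga S :=
    ⟨sheafifyLift J (constHom p h0) (EtCoh.Ga S).property⟩
  have hψ : toSheafify J P ≫ ψ.hom = constHom p h0 := toSheafify_sheafifyLift _ _ _
  have hψ0 : ψ ≫ asMap p h0 = 0 := by
    apply Sheaf.hom_ext
    refine sheafify_hom_ext J _ _ (EtCoh.Ga S).property ?_
    show toSheafify J P ≫ ψ.hom ≫ (asMap p h0).hom = toSheafify J P ≫ 0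
    rw [← Category.assoc, hψ, Limits.comp_zero]
    apply NatTrans.ext
    funext U
    refine ConcreteCategory.hom_ext _ _ fun t => ?_
    obtain ⟨t⟩ := t
    obtain ⟨m, rfl⟩ := ZMod.intCast_surjective t
    show (asMap p h0).hom.app U ((constHom p h0).app U (ULift.up (m : ZMod p))) = 0
    obtain ⟨U⟩ := U
    rw [constHom_apply, asMap_sec]
    have : (m : Γ(U.left, ⊤)) ^ p - (m : Γ(U.left, ⊤)) = ((m ^ p - m : ℤ) : Γ(U.left, ⊤)) := by push_cast; ring
    obtain ⟨c, hc⟩ : (p : ℤ) ∣ m ^ p - m := by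
      rw [← ZMod.intCast_zmod_eq_zero_iff_dvd]; push_cast; rw [ZMod.pow_card, sub_self]
    rw [this, hc, Int.cast_mul, Int.cast_natCast, natCast_eq_zero h0, zero_mul]
    rfl
  let e : EtCoh.const S (ZMod p) ⟶ kernel (asMap p h0) := kernel.lift _ ψ hψ0
  let φ : P ⟶ (kernel (asMap p h0)).obj := toSheafify J P ≫ e.hom
  let ι := kernel.ι (asMap p h0)
  have hφι : ∀ (U : S.Etale) (m : ℤ),
      ι.hom.app (op U) (φ.app (op U) (ULift.up (m : ZMod p))) = sec (m : Γ(U.left, ⊤)) := by
    intro U m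
    rw [← constHom_apply p h0 U m]
    have h : φ ≫ ι.hom = constHom p h0 := by
      show (toSheafify J P ≫ e.hom) ≫ _ = _
      rw [Category.assoc, ← hψ]
      congr 1
      exact congrArg (fun t : EtCoh.const S (ZMod p) ⟶ EtCoh.Ga S => t.hom) (kernel.lift_ι _ ψ hψ0)
    exact congrArg (fun t : P ⟶ (EtCoh.Ga S).obj => t.app (op U) (ULift.up (m : ZMod p))) h
  have hinjι : ∀ U : S.Etale, Function.Injective (ι.hom.app (op U)) := by
    intro U
    haveI : Mono ((sheafToPresheaf J AddCommGrpCat.{u + 1}).map ι) := Functor.map_mono _ _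
    haveI : Mono (((evaluation _ _).obj (op U)).map ((sheafToPresheaf J AddCommGrpCat.{u + 1}).map ι)) :=
      Functor.map_mono _ _
    exact (AddCommGrpCat.mono_iff_injective _).mp this
  haveI hI : Presheaf.IsLocallyInjective J φ := by
    refine ⟨fun {U} a b h => mem_of_points U.unop _ fun x => ⟨U.unop, 𝟙 _, x, ?_, rfl⟩⟩
    obtain ⟨U⟩ := U
    obtain ⟨a⟩ := a
    obtain ⟨b⟩ := b
    obtain ⟨m, rfl⟩ := ZMod.intCast_surjective a
    obtain ⟨n, rfl⟩ := ZMod.intCast_surjective b
    have h' := sec_injective ((hφι U m).symm.trans ((congrArg _ h).trans (hφι U n)))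
    have h'' := congrArg (fun w : Γ(U.left, ⊤) => U.left.Γevaluation x w) h'
    simp only [map_intCast] at h''
    haveI : CharP (U.left.residueField x) p := by
      refine (CharP.charP_iff_prime_eq_zero hp.out).2 ?_
      have := congrArg (U.left.Γevaluation x).hom (natCast_eq_zero h0 U)
      rwa [map_natCast, map_zero] at this
    have hab : (m : ZMod p) = (n : ZMod p) :=
      (ZMod.intCast_eq_intCast_iff m n p).2 ((CharP.intCast_eq_intCast (U.left.residueField x) p).1 h'')
    show P.map _ _ = P.map _ _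
    rw [hab]
  haveI hS : Presheaf.IsLocallySurjective J φ := by
    refine ⟨fun {U} w => mem_of_points U _ fun x => ?_⟩
    obtain ⟨v, hv⟩ : ∃ v, ι.hom.app (op U) w = sec v :=
      ⟨(show ULift.{u+1} Γ(U.left, ⊤) from ι.hom.app (op U) w).down, rfl⟩
    have hvp : v ^ p - v = 0 := by
      apply sec_injective
      rw [← asMap_sec p h0 U v, ← hv]
      exact congrArg (fun t : kernel (asMap p h0) ⟶ EtCoh.Ga S => t.hom.app (op U) w) (kernel.condition (asMap p h0))
    let gm := (U.left.presheaf.germ ⊤ x trivial).hom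
    let ev := (U.left.Γevaluation x).hom
    haveI : CharP (U.left.residueField x) p := by
      refine (CharP.charP_iff_prime_eq_zero hp.out).2 ?_
      have := congrArg ev (natCast_eq_zero h0 U)
      rwa [map_natCast, map_zero] at this
    obtain ⟨m, hm⟩ : ∃ m : ℤ, ev v = (m : U.left.residueField x) := by
      have hx : ev v ^ p = ev v := by
        have := congrArg ev hvp
        rwa [map_sub, map_pow, map_zero, sub_eq_zero] at this
      obtain ⟨a, ha⟩ : ev v ∈ (ZMod.castHom (dvd_refl p) (U.left.residueField x)).fieldRange :=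
        (bot_le : (⊥ : Subfield (U.left.residueField x)) ≤ _) ((Subfield.mem_bot_iff_pow_eq_self _ p).2 hx)
      obtain ⟨m, rfl⟩ := ZMod.intCast_surjective a
      exact ⟨m, ha.symm.trans (map_intCast _ m)⟩
    have hgerm : gm v = gm (m : Γ(U.left, ⊤)) := by
      set d := gm v - gm (m : Γ(U.left, ⊤)) with hd
      have hd0 : d * (d ^ (p - 1) - 1) = 0 := by
        have hp1 : d * d ^ (p - 1) = d ^ p := by rw [← pow_succ']; congr 1; have := hp.out.pos; omega
        rw [mul_sub, hp1, mul_one, hd, ← map_sub, ← map_pow, ← map_sub]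
        refine (congrArg gm ?_).trans (map_zero gm)
        have hpU := natCast_eq_zero h0 U
        have hm : (m : Γ(U.left, ⊤)) ^ p = m := by
          obtain ⟨c, hc⟩ : (p : ℤ) ∣ m ^ p - m := by
            rw [← ZMod.intCast_zmod_eq_zero_iff_dvd]; push_cast; rw [ZMod.pow_card, sub_self]
          have hc' := congrArg (fun n : ℤ => (n : Γ(U.left, ⊤))) hc
          simp only [Int.cast_sub, Int.cast_pow, Int.cast_mul, Int.cast_natCast, hpU, zero_mul] at hc'
          exact sub_eq_zero.1 hc'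
        have e := add_pow_p hp.out hpU (v - m) (m : Γ(U.left, ⊤))
        rw [sub_add_cancel, hm] at e
        linear_combination hvp - e
      have hu : IsUnit (d ^ (p - 1) - 1) := by
        apply (IsLocalRing.residue_ne_zero_iff_isUnit _).mp
        have hres : IsLocalRing.residue _ d = 0 := by
          rw [hd, map_sub]
          show ev v - ev (m : Γ(U.left, ⊤)) = 0
          rw [map_intCast, hm, sub_self]
        have hp0 : p - 1 ≠ 0 := by have := hp.out.two_le; omega
        rw [map_sub, map_pow, hres, zero_pow hp0, map_one, zero_sub]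
        exact neg_ne_zero.2 one_ne_zero
      exact sub_eq_zero.mp (hu.mul_left_eq_zero.mp hd0)
    obtain ⟨(O : U.left.Opens), hxO, i₁, i₂, hO⟩ :=
      TopCat.Presheaf.germ_eq (X := U.left) U.left.presheaf (U := ⊤) (V := ⊤) x trivial trivial v (m : Γ(U.left, ⊤)) hgerm
    haveI : AlgebraicGeometry.Etale U.hom := U.prop
    haveI : AlgebraicGeometry.Etale (O.ι ≫ U.hom) :=
      MorphismProperty.comp_mem @AlgebraicGeometry.Etale O.ι U.hom inferInstance inferInstance
    let V : S.Etale := Scheme.Etale.mk (O.ι ≫ U.hom)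
    let g : V ⟶ U := MorphismProperty.Over.homMk O.ι rfl trivial
    refine ⟨V, g, ⟨x, hxO⟩, ⟨ULift.up (m : ZMod p), ?_⟩, rfl⟩
    apply hinjι
    rw [hφι]
    have hnat := congrArg (fun t => t w) (ι.hom.naturality g.op)
    refine Eq.trans ?_ hnat.symm
    show _ = (EtCoh.Ga S).obj.map g.op (ι.hom.app (op U) w)
    rw [hv, map_sec]
    congr 1
    show (m : Γ(V.left, ⊤)) = O.ι.appTop.hom v
    have hOc : O.ι.appTop.hom v = O.ι.appTop.hom (m : Γ(U.left, ⊤)) := by
      rw [Scheme.Opens.ι_appTop]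
      have hle : O.ι ''ᵁ ⊤ ≤ O := by rw [Scheme.Opens.ι_image_top]
      rw [show (homOfLE (le_top : O.ι ''ᵁ ⊤ ≤ ⊤)) = homOfLE hle ≫ i₁ from Subsingleton.elim _ _]
      conv_rhs => rw [show homOfLE hle ≫ i₁ = homOfLE hle ≫ i₂ from Subsingleton.elim _ _]
      simp only [op_comp, Functor.map_comp, ConcreteCategory.comp_apply]
      exact congrArg _ hO
    rw [hOc, map_intCast]
  haveI : IsIso e := by
    refine (Sheaf.isLocallyBijective_iff_isIso (A := AddCommGrpCat.{u + 1}) e).mp ?_
    exact ⟨(Presheaf.comp_isLocallyInjective_iff J (toSheafify J P) e.hom).mp hI,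
      (Presheaf.comp_isLocallySurjective_iff J (toSheafify J P) e.hom).mp hS⟩
  exact ⟨asIso e⟩

end Groth.Agent.EtASLib

namespace Groth.Agent.EtASLib

/-- `H^{n+2}(S, ℤ/p) = 0` on an affine scheme of characteristic `p`. -/
theorem subsingleton_H_const {S : Scheme.{u}} [IsAffine S] (p : ℕ) [hp : Fact p.Prime]
    (h0 : (p : Γ(S, ⊤)) = 0) (n : ℕ) : Subsingleton (EtCoh.H S (EtCoh.const S (ZMod p)) (n + 2)) := by
  haveI := epi_asMap p h0
  obtain ⟨e⟩ := nonempty_kernel_iso p h0
  let T : ShortComplex (EtCoh.Ab S) := ShortComplex.mk _ _ (kernel.condition (asMap p h0))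
  have hT : T.ShortExact := { exact := ShortComplex.exact_kernel (asMap p h0) }
  haveI := Groth.Agent.QCohLoc.isQCoh_structureModule S
  have hG : ∀ m : ℕ, Subsingleton (EtCoh.H S (EtCoh.Ga S) (m + 1)) := fun m =>
    Groth.Agent.Desc19b.EtQCoh.subsingleton_H _ (Groth.Agent.Desc19b.EtQCoh.isAssoc_Ga S) m
  refine subsingleton_of_forall_eq 0 fun x => ?_
  let E := ((EtCoh.HF S (n + 2)).mapIso e).addCommGroupIsoToAddEquiv
  refine E.injective ((?_ : E x = 0).trans (map_zero E).symm)
  obtain ⟨y, hy⟩ := Ext.covariant_sequence_exact₁ _ hT (E x) ((hG (n + 1)).elim _ _) (rfl : (n + 1) + 1 = n + 2)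
  rw [← hy, (hG n).elim y 0, Ext.zero_comp]

end Groth.Agent.EtASLib
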