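import Groth.Agent.EtASLib.ZarGa
import Groth.Agent.Coherent.ProperFinite
import Groth.Agent.Et18.QLinear

/-!
# Artin–Schreier theory on proper schemes over separably closed fields
-/

set_option autoImplicit false
set_option linter.all false
set_option backward.isDefEq.respectTransparency false
set_option backward.isDefEq.respectTransparency.types false
set_option synthInstance.maxHeartbeats 400000
set_option maxHeartbeats 1000000

universe u

open CategoryTheory CategoryTheory.Limits CategoryTheory.Abelian AlgebraicGeometry Opposite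

namespace Groth.Agent.EtASLib

/-- A Frobenius-semilinear endomorphism of a finite-dimensional space has finitely many fixed vectors. -/
theorem finite_fixed {k : Type*} [Field k] {p : ℕ} (hp : 2 ≤ p) {V : Type*} [AddCommGroup V] [Module k V]
    [FiniteDimensional k V] (T : V →+ V) (hT : ∀ (a : k) (v : V), T (a • v) = a ^ p • T v) :
    Set.Finite {v : V | T v = v} := by
  classical
  obtain ⟨s, hs, hsp, hli⟩ := exists_linearIndependent k {v : V | T v = v}
  haveI : Fintype s := @Fintype.ofFinite _ hli.finite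
  let F : Set k := {c : k | c ^ p = c}
  have hF : F.Finite := by
    refine (Polynomial.finite_setOf_isRoot (p := (Polynomial.X ^ p - Polynomial.X : Polynomial k))
      (FiniteField.X_pow_card_sub_X_ne_zero k hp)).subset fun c hc => ?_
    show Polynomial.IsRoot _ c
    rw [Polynomial.IsRoot, Polynomial.eval_sub, Polynomial.eval_pow, Polynomial.eval_X, sub_eq_zero]
    exact hc
  haveI : Finite F := hF.to_subtype
  refine (Set.finite_range fun c : s → F => ∑ i : s, (c i : k) • (i : V)).subset fun v hv => ?_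
  have hmem : v ∈ Submodule.span k (Set.range (Subtype.val : s → V)) := by
    rw [Subtype.range_coe, hsp]
    exact Submodule.subset_span hv
  obtain ⟨c, hc⟩ := (Submodule.mem_span_range_iff_exists_fun k).1 hmem
  have hTc : ∑ i : s, (c i ^ p) • (i : V) = v := by
    refine Eq.trans ?_ hv
    rw [← hc, map_sum]
    exact Finset.sum_congr rfl fun i _ => by rw [hT, (hs i.2 : T (i : V) = i)]
  have hz : ∀ i, c i ^ p = c i := fun i => by
    have h0 : ∑ i : s, (c i ^ p - c i) • (i : V) = 0 := by
      simp only [sub_smul, Finset.sum_sub_distrib, hTc, hc, sub_self]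
    exact sub_eq_zero.1 (Fintype.linearIndependent_iff.1 hli _ h0 i)
  exact ⟨fun i => ⟨c i, hz i⟩, hc⟩

variable {X : Scheme.{u}} (p : ℕ) [hp : Fact p.Prime] (h0 : (p : Γ(X, ⊤)) = 0)

/-- The Frobenius endomorphism of `G_a`. -/
noncomputable def frobMap : EtCoh.Ga X ⟶ EtCoh.Ga X := asMap p h0 + 𝟙 _

lemma frobMap_sec (U : X.Etale) (v : Γ(U.left, ⊤)) :
    (frobMap p h0).hom.app (op U) (sec v) = sec (v ^ p) := by
  show sec ((v ^ p - v) + v) = _
  rw [sub_add_cancel]

lemma mulMap_frobMap (c : Γ(X, ⊤)) : mulMap c ≫ frobMap p h0 = frobMap p h0 ≫ mulMap (c ^ p) := by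
  apply Sheaf.hom_ext
  refine NatTrans.ext (funext fun U => ConcreteCategory.hom_ext _ _ fun t => ?_)
  obtain ⟨(v : Γ(U.unop.left, ⊤))⟩ := t
  show (frobMap p h0).hom.app (op U.unop) ((mulMap c).hom.app (op U.unop) (sec v)) =
    (mulMap (c ^ p)).hom.app (op U.unop) ((frobMap p h0).hom.app (op U.unop) (sec v))
  rw [mulMap_sec, frobMap_sec, frobMap_sec, mulMap_sec, map_pow, mul_pow]

/-- Artin–Schreier on the cohomology of a proper scheme over a separably closed field: surjective
with finite kernel. -/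
theorem as_surjective_finite {k : Type u} [Field k] [IsSepClosed k] [CharP k p]
    (f : X ⟶ Spec (CommRingCat.of k)) [IsProper f] (q : ℕ) :
    Function.Surjective ((EtCoh.HF X q).map (asMap p h0)) ∧
      Set.Finite {y : EtCoh.H X (EtCoh.Ga X) q | (EtCoh.HF X q).map (asMap p h0) y = 0} := by
  haveI : EtZar.ZarCont X := Groth.Agent.Desc19b.EtQCoh.zarCont X
  letI : X.Over (Spec (CommRingCat.of k)) := ⟨f⟩
  haveI : IsProper (X ↘ Spec (CommRingCat.of k)) := ‹IsProper f›
  haveI : IsLocallyNoetherian X := LocallyOfFiniteType.isLocallyNoetherian f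
  let V := Coh.HH X (Coh.structureModule X) q
  haveI : Module.Finite k V := (Groth.Agent.Coherent.finite_HH_iff k _ q).2
    (Groth.Agent.Coherent.finCoh_of_isProper (X ↘ Spec (CommRingCat.of k)) _
      (Groth.Agent.Coherent.isCoh_structureModule X) q)
  let E : V ≃+ EtCoh.H X (EtCoh.Ga X) q := AddEquiv.ofBijective (cmp q) (cmp_bijective q)
  let φ : k →+* Γ(X, ⊤) := Groth.Agent.Coherent.baseHom k X
  have hsmul : ∀ (a : k) (v : V), E (a • v) = (EtCoh.HF X q).map (mulMap (φ a)) (E v) :=
    fun a v => cmp_smul q (φ a) v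
  let T : V →+ V := E.symm.toAddMonoidHom.comp
    (((EtCoh.HF X q).map (frobMap p h0)).hom.comp E.toAddMonoidHom)
  have hET : ∀ v, E (T v) = (EtCoh.HF X q).map (frobMap p h0) (E v) := fun v => E.apply_symm_apply _
  have hT : ∀ (a : k) (v : V), T (a • v) = a ^ p • T v := fun a v => E.injective (by
    rw [hET, hsmul, hsmul, hET, map_pow, ← ConcreteCategory.comp_apply, ← Functor.map_comp, mulMap_frobMap,
      Functor.map_comp, ConcreteCategory.comp_apply])
  have hAS : ∀ v, (EtCoh.HF X q).map (asMap p h0) (E v) = E (T v - v) := fun v => by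
    rw [map_sub, hET]
    show (E v).comp (Ext.mk₀ (asMap p h0)) (add_zero q) = (E v).comp (Ext.mk₀ (asMap p h0 + 𝟙 _)) (add_zero q) - E v
    rw [Ext.mk₀_add, Ext.comp_add, Ext.comp_mk₀_id, add_sub_cancel_right]
  refine ⟨fun y => ?_, ?_⟩
  · obtain ⟨v, hv⟩ := Groth.Agent.Et18.QLinear.surjective_sub (p := p) (r := 1) one_pos T
      (fun c v => by rw [pow_one]; exact hT c v) (-(E.symm y))
    refine ⟨E v, (hAS v).trans ?_⟩
    rw [show T v - v = E.symm y from by rw [← neg_sub]; exact neg_eq_iff_eq_neg.2 hv, E.apply_symm_apply]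
  · refine ((finite_fixed hp.out.two_le T hT).image E).subset fun y hy => ⟨E.symm y, ?_, E.apply_symm_apply y⟩
    have := hAS (E.symm y)
    rw [E.apply_symm_apply] at this
    exact sub_eq_zero.1 (E.injective ((this.symm.trans hy).trans (map_zero E).symm))

/-- Finiteness. -/
theorem finite_H_const {k : Type u} [Field k] [IsSepClosed k] [CharP k p]
    (f : X ⟶ Spec (CommRingCat.of k)) [IsProper f] (h0 : (p : Γ(X, ⊤)) = 0) (q : ℕ) :
    Finite (EtCoh.H X (EtCoh.const X (ZMod p)) q) := by
  haveI := epi_asMap p h0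
  obtain ⟨e⟩ := nonempty_kernel_iso p h0
  let T : ShortComplex (EtCoh.Ab X) := ShortComplex.mk _ _ (kernel.condition (asMap p h0))
  have hT : T.ShortExact := { exact := ShortComplex.exact_kernel (asMap p h0) }
  let E := ((EtCoh.HF X q).mapIso e).addCommGroupIsoToAddEquiv
  let ι' : EtCoh.H X (kernel (asMap p h0)) q →+ EtCoh.H X (EtCoh.Ga X) q :=
    ((EtCoh.HF X q).map (kernel.ι (asMap p h0))).hom
  have hinj : Function.Injective ι' := by
    refine (injective_iff_map_eq_zero _).2 fun x hx => ?_
    rcases q with _ | q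
    · obtain ⟨g, rfl⟩ := (Ext.mk₀_bijective _ _).2 x
      change (Ext.mk₀ g).comp (Ext.mk₀ (kernel.ι (asMap p h0))) (add_zero 0) = 0 at hx
      rw [Ext.mk₀_comp_mk₀, Ext.mk₀_eq_zero_iff] at hx
      rw [Ext.mk₀_eq_zero_iff, ← cancel_mono (kernel.ι (asMap p h0)), hx, zero_comp]
    · obtain ⟨y, rfl⟩ := Ext.covariant_sequence_exact₁ _ hT x hx (rfl : q + 1 = q + 1)
      obtain ⟨y', rfl⟩ := (as_surjective_finite p h0 f q).1 y
      show (y'.comp (Ext.mk₀ T.g) (add_zero q)).comp hT.extClass rfl = 0
      rw [Ext.comp_assoc_of_second_deg_zero, hT.comp_extClass, Ext.comp_zero]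
  have hfin := (as_surjective_finite p h0 f q).2
  haveI : Finite (Set.range ι') := (hfin.subset (Set.range_subset_iff.2 fun x => by
    show (x.comp (Ext.mk₀ T.f) (add_zero q)).comp (Ext.mk₀ T.g) (add_zero q) = 0
    rw [Ext.comp_assoc_of_third_deg_zero, Ext.mk₀_comp_mk₀, T.zero, Ext.mk₀_zero, Ext.comp_zero])).to_subtype
  exact Finite.of_injective (fun x : EtCoh.H X (EtCoh.const X (ZMod p)) q => Set.rangeFactorization ι' (E x))
    ((Set.rangeFactorization_injective.2 hinj).comp E.injective)

theorem natCast_eq_zero_of_over {k : Type u} [Field k] [CharP k p] (f : X ⟶ Spec (CommRingCat.of k)) :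
    (p : Γ(X, ⊤)) = 0 := by
  let g := (f.appTop.hom.comp (Scheme.ΓSpecIso (CommRingCat.of k)).inv.hom : k →+* Γ(X, ⊤))
  rw [← map_natCast g, CharP.cast_eq_zero, map_zero]

end Groth.Agent.EtASLib
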