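import Groth.Agent.Desc19b.EtQCoh.ULiftH
import Mathlib.Algebra.Homology.DerivedCategory.Ext.Map
import Mathlib.Algebra.Homology.ShortComplex.ExactFunctor

/-!
# The natural comparison of Zariski cohomology in two universes
-/

set_option autoImplicit false
set_option linter.all false
set_option backward.isDefEq.respectTransparency false
set_option backward.isDefEq.respectTransparency.types false
set_option synthInstance.maxHeartbeats 400000
set_option maxHeartbeats 1000000

universe u

open CategoryTheory CategoryTheory.Limits CategoryTheory.Abelian AlgebraicGeometry Opposite TopologicalSpace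
open Groth.Agent.SiteCoh Groth.Agent.Desc19b.EtQCoh

namespace Groth.Agent.EtASLib

variable (X : Scheme.{u})

instance preservesFiniteColimits_lift : PreservesFiniteColimits (lift X) :=
  (((lift X).exact_tfae.out 0 3 : (∀ S : ShortComplex (Sheaf (Opens.grothendieckTopology X) AddCommGrpCat.{u}), S.ShortExact → (S.map (lift X)).ShortExact) ↔ PreservesFiniteLimits (lift X) ∧ PreservesFiniteColimits (lift X)).1 fun _ hS => shortExact_lift X hS).2

/-- `ℤ` in the small universe. -/
noncomputable abbrev cu : Sheaf (Opens.grothendieckTopology X) AddCommGrpCat.{u} :=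
  (constantSheaf (Opens.grothendieckTopology X) AddCommGrpCat.{u}).obj (AddCommGrpCat.of (ULift.{u} ℤ))

/-- `ℤ` in the big universe. -/
noncomputable abbrev cv : EtZar.Ab X :=
  (constantSheaf (Opens.grothendieckTopology X) AddCommGrpCat.{u + 1}).obj (AddCommGrpCat.of (ULift.{u + 1} ℤ))

/-- The unit `1` of `ℤ` as a global section. -/
noncomputable def oneSec : (cu X).obj.obj (op ⊤) :=
  (constantSheafAdj (Opens.grothendieckTopology X) AddCommGrpCat.{u} isTerminalTop).unit.app _ (ULift.up 1)

/-- The comparison of the two `ℤ`. -/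
noncomputable def eta : cv X ⟶ (lift X).obj (cu X) :=
  ((constantSheafAdj (Opens.grothendieckTopology X) AddCommGrpCat.{u + 1} isTerminalTop).homEquiv _ _).symm
    (AddCommGrpCat.ofHom ((zmultiplesHom _ (ULift.up (oneSec X))).comp AddEquiv.ulift.toAddMonoidHom))

/-- The natural comparison map. -/
noncomputable def phi (F : Sheaf (Opens.grothendieckTopology X) AddCommGrpCat.{u}) (n : ℕ) :
    Sheaf.H F n →+ EtZar.H ((lift X).obj F) n :=
  ((Ext.mk₀ (eta X)).precomp _ (zero_add n)).comp ((lift X).mapExtAddHom (cu X) F n)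

variable {X}

theorem phi_apply (F : Sheaf (Opens.grothendieckTopology X) AddCommGrpCat.{u}) (n : ℕ) (x : Ext (cu X) F n) :
    phi X F n x = (Ext.mk₀ (eta X)).comp (x.mapExactFunctor (lift X)) (zero_add n) := rfl

theorem phi_natural {F G : Sheaf (Opens.grothendieckTopology X) AddCommGrpCat.{u}} (a : F ⟶ G) (n : ℕ)
    (x : Ext (cu X) F n) :
    phi X G n (x.comp (Ext.mk₀ a) (add_zero n)) =
      (phi X F n x).comp (Ext.mk₀ ((lift X).map a)) (add_zero n) := by
  rw [phi_apply, phi_apply, Ext.mapExactFunctor_comp, Ext.mapExactFunctor_mk₀, Ext.comp_assoc_of_third_deg_zero]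

theorem phi_connect {S : ShortComplex (Sheaf (Opens.grothendieckTopology X) AddCommGrpCat.{u})}
    (hS : S.ShortExact) (n : ℕ) (x : Ext (cu X) S.X₃ n) :
    phi X S.X₁ (n + 1) (x.comp hS.extClass rfl) =
      (phi X S.X₃ n x).comp (shortExact_lift X hS).extClass rfl := by
  rw [phi_apply, phi_apply, Ext.mapExactFunctor_comp, Ext.mapExactFunctor_extClass]
  exact (Ext.comp_assoc (Ext.mk₀ (eta X)) _ _ (zero_add n) rfl (by omega)).symm

theorem phi_bijective_zero (F : Sheaf (Opens.grothendieckTopology X) AddCommGrpCat.{u}) :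
    Function.Bijective (phi X F 0) := by
  let adj := constantSheafAdj (Opens.grothendieckTopology X) AddCommGrpCat.{u} isTerminalTop
  let adj' := constantSheafAdj (Opens.grothendieckTopology X) AddCommGrpCat.{u + 1} isTerminalTop
  let v : (cu X ⟶ F) → F.obj.obj (op ⊤) := fun g => g.hom.app (op ⊤) (oneSec X)
  have hv : Function.Bijective v := by
    have e : ∀ g, v g = adj.homEquiv _ _ g (ULift.up 1) := fun g => rfl
    refine ⟨fun g g' h => ?_, fun t => ?_⟩
    · apply (adj.homEquiv _ _).injective
      refine ConcreteCategory.hom_ext _ _ fun m => ?_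
      obtain ⟨m⟩ := m
      have hm : (ULift.up m : ULift.{u} ℤ) = m • ULift.up 1 := ULift.ext _ _ (by
        show m = m • (1 : ℤ)
        simp)
      rw [hm, map_zsmul, map_zsmul, ← e, ← e, h]
    · refine ⟨(adj.homEquiv _ _).symm
        (AddCommGrpCat.ofHom ((zmultiplesHom _ t).comp AddEquiv.ulift.toAddMonoidHom)), ?_⟩
      rw [e, Equiv.apply_symm_apply]
      exact one_zsmul t
  let v' : (cv X ⟶ (lift X).obj F) → ULift.{u + 1} (F.obj.obj (op ⊤)) := fun g =>
    adj'.homEquiv _ _ g (ULift.up 1)
  have hv' : Function.Injective v' := fun g g' h => by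
    apply (adj'.homEquiv _ _).injective
    refine ConcreteCategory.hom_ext _ _ fun m => ?_
    obtain ⟨m⟩ := m
    have hm : (ULift.up m : ULift.{u + 1} ℤ) = m • ULift.up 1 := ULift.ext _ _ (by
      show m = m • (1 : ℤ)
      simp)
    rw [hm, map_zsmul, map_zsmul]
    exact congrArg (m • ·) h
  have key : ∀ g : cu X ⟶ F, v' (eta X ≫ (lift X).map g) = ULift.up (v g) := fun g => by
    show adj'.homEquiv _ _ (eta X ≫ (lift X).map g) (ULift.up 1) = _
    rw [Adjunction.homEquiv_naturality_right, eta, Equiv.apply_symm_apply]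
    show ULift.up (g.hom.app (op ⊤) (((1 : ℤ) • ULift.up.{u + 1} (oneSec X)).down)) = _
    rw [one_zsmul]
  have hphi : ∀ g : cu X ⟶ F, phi X F 0 (Ext.mk₀ g) = Ext.mk₀ (eta X ≫ (lift X).map g) := fun g => by
    rw [phi_apply, Ext.mapExactFunctor_mk₀, Ext.mk₀_comp_mk₀]
  refine ⟨fun x y hxy => ?_, fun y => ?_⟩
  · obtain ⟨g, rfl⟩ := (Ext.mk₀_bijective _ _).2 x
    obtain ⟨g', rfl⟩ := (Ext.mk₀_bijective _ _).2 y
    rw [hphi, hphi] at hxy
    have := congrArg v' ((Ext.mk₀_bijective _ _).1 hxy)
    rw [key, key] at this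
    rw [hv.1 (congrArg ULift.down this)]
  · obtain ⟨g, rfl⟩ := (Ext.mk₀_bijective _ _).2 y
    obtain ⟨g', hg'⟩ := hv.2 (v' g).down
    exact ⟨Ext.mk₀ g', (hphi g').trans (congrArg Ext.mk₀ (hv' ((key g').trans (congrArg ULift.up hg'))))⟩

/-- Bijectivity. -/
theorem phi_bijective (n : ℕ) :
    ∀ F : Sheaf (Opens.grothendieckTopology X) AddCommGrpCat.{u}, Function.Bijective (phi X F n) := by
  induction n with
  | zero => exact phi_bijective_zero
  | succ n ih =>
    intro F
    let S := injEmbed F
    have hS := injEmbed_shortExact F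
    haveI : Injective S.X₂ := inferInstanceAs (Injective (Injective.under F))
    have hI : ∀ m, Subsingleton (Ext (cu X) S.X₂ (m + 1)) := fun m =>
      subsingleton_of_forall_eq 0 fun x => Ext.eq_zero_of_injective x
    have hL := shortExact_lift X hS
    have hI' : ∀ m, Subsingleton (Ext (cv X) (S.map (lift X)).X₂ (m + 1)) := fun m => subsingleton_H_lift S.X₂ m
    have hsq : ∀ x, phi X F (n + 1) (connect (cu X) hS n x) = connect (cv X) hL n (phi X S.X₃ n x) :=
      phi_connect hS n
    refine ⟨(injective_iff_map_eq_zero _).2 fun z hz => ?_, fun y => ?_⟩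
    · obtain ⟨x, rfl⟩ := connect_surjective (cu X) hS n (hI n) z
      rw [hsq] at hz
      obtain ⟨y, hy⟩ := (connect_eq_zero_iff (cv X) hL n _).1 hz
      refine (connect_eq_zero_iff (cu X) hS n x).2 ?_
      cases n with
      | zero =>
        obtain ⟨w, rfl⟩ := phi_bijective_zero S.X₂ |>.2 y
        exact ⟨w, (ih S.X₃).1 ((phi_natural S.g 0 w).trans hy)⟩
      | succ k =>
        rw [(hI' k).elim y 0, Ext.zero_comp] at hy
        exact ⟨0, by rw [Ext.zero_comp]; exact (ih S.X₃).1 ((map_zero _).trans hy)⟩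
    · obtain ⟨w, rfl⟩ := connect_surjective (cv X) hL n (hI' n) y
      obtain ⟨x, rfl⟩ := (ih S.X₃).2 w
      exact ⟨connect (cu X) hS n x, hsq x⟩

end Groth.Agent.EtASLib
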