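import Groth.Agent.EtASLib.Basic
import Groth.Agent.EtASLib.LiftNat
import Groth.Agent.Desc19b.EtQCoh.Zar
import Groth.Agent.QCohLoc.Unit

/-!
# Zariski cohomology of `O` is étale cohomology of `G_a`, compatibly with multiplication
-/

set_option autoImplicit false
set_option linter.all false
set_option backward.isDefEq.respectTransparency false
set_option backward.isDefEq.respectTransparency.types false
set_option synthInstance.maxHeartbeats 400000
set_option maxHeartbeats 1000000

universe u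

open CategoryTheory CategoryTheory.Limits CategoryTheory.Abelian AlgebraicGeometry Opposite TopologicalSpace
open Groth.Agent.Desc19b.EtQCoh
open Groth.Agent.HenselLib.Kummer (str)

namespace Groth.Agent.EtASLib

variable {X : Scheme.{u}}

/-- Multiplication by a global function on `G_a`. -/
noncomputable def mulMap (c : Γ(X, ⊤)) : EtCoh.Ga X ⟶ EtCoh.Ga X :=
  ⟨{ app := fun U => AddCommGrpCat.ofHom (AddEquiv.ulift.symm.toAddMonoidHom.comp
      ((AddMonoidHom.mulLeft ((str U.unop).appTop.hom c)).comp AddEquiv.ulift.toAddMonoidHom))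
     naturality := fun U V g => by
      refine ConcreteCategory.hom_ext _ _ fun t => ?_
      obtain ⟨(v : Γ(U.unop.left, ⊤))⟩ := t
      show sec ((str V.unop).appTop.hom c * g.unop.left.appTop.hom v) =
        sec (g.unop.left.appTop.hom ((str U.unop).appTop.hom c * v))
      congr 1
      rw [map_mul]
      congr 1
      rw [← show g.unop.left ≫ str U.unop = str V.unop from CategoryTheory.Over.w g.unop.hom,
        Scheme.Hom.comp_appTop]
      rfl }⟩

lemma mulMap_sec (c : Γ(X, ⊤)) (U : X.Etale) (v : Γ(U.left, ⊤)) :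
    (mulMap c).hom.app (op U) (sec v) = sec ((str U).appTop.hom c * v) := rfl

variable [EtZar.ZarCont X]

lemma topIso_inv_res {U V : X.Opens} (h : V ≤ U) (r : Γ(X, U)) :
    V.topIso.inv (X.presheaf.map (homOfLE h).op r) = (X.homOfLE h).appTop (U.topIso.inv r) := by
  have key : U.topIso.inv ≫ (X.homOfLE h).appTop = X.presheaf.map (homOfLE h).op ≫ V.topIso.inv := by
    simp only [Scheme.Opens.topIso_inv, Scheme.homOfLE_app, Scheme.Hom.appTop, ← Functor.map_comp]
    rfl
  exact (ConcreteCategory.congr_hom key r).symm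

/-- Functions on an open, as sections of `G_a` over it. -/
noncomputable def zeta : (lift X).obj (Coh.toAb (Coh.structureModule X)) ≅ (EtZar.resZar X).obj (EtCoh.Ga X) :=
  (fullyFaithfulSheafToPresheaf _ _).preimageIso <| NatIso.ofComponents
    (fun U => AddEquiv.toAddCommGrpIso ((AddEquiv.ulift.trans
      (Scheme.Opens.topIso (X := X) U.unop).symm.commRingCatIsoToRingEquiv.toAddEquiv).trans AddEquiv.ulift.symm))
    fun {U V} g => by
      refine ConcreteCategory.hom_ext _ _ fun t => ?_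
      obtain ⟨(r : Γ(X, U.unop))⟩ := t
      exact ULift.ext _ _ (topIso_inv_res g.unop.le r)

lemma zeta_natural (c : Γ(X, ⊤)) :
    (lift X).map (Coh.smulAb (Coh.structureModule X) c) ≫ zeta.hom =
      zeta.hom ≫ (EtZar.resZar X).map (mulMap c) := by
  apply Sheaf.hom_ext
  refine NatTrans.ext (funext fun U => ConcreteCategory.hom_ext _ _ fun t => ?_)
  obtain ⟨(r : Γ(X, U.unop))⟩ := t
  refine ULift.ext _ _ ?_
  show (Scheme.Opens.topIso (X := X) U.unop).inv (X.presheaf.map (homOfLE le_top).op c * r) =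
    (Scheme.Opens.ι (X := X) U.unop).appTop c * (Scheme.Opens.topIso (X := X) U.unop).inv r
  rw [map_mul]
  congr 1
  have key : X.presheaf.map (homOfLE (le_top (a := U.unop))).op ≫ (Scheme.Opens.topIso (X := X) U.unop).inv = (Scheme.Opens.ι (X := X) U.unop).appTop := by
    simp only [Scheme.Opens.topIso_inv, Scheme.Opens.ι_appTop, ← Functor.map_comp]
    rfl
  exact ConcreteCategory.congr_hom key c

/-- The comparison map. -/
noncomputable def cmp (q : ℕ) : Coh.HH X (Coh.structureModule X) q →+ EtCoh.H X (EtCoh.Ga X) q :=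
  (((Ext.mk₀ (EtZarCmp.pullConstIso X (AddCommGrpCat.of (ULift.{u + 1} ℤ))).inv).precomp _ (zero_add q)).comp
    ((EtCmp.adjExtHom (EtZarCmp.zarAdj X) (cv X) (EtCoh.Ga X) q).comp
      ((Ext.mk₀ zeta.hom).postcomp _ (add_zero q)))).comp (phi X (Coh.toAb (Coh.structureModule X)) q)

theorem cmp_bijective (q : ℕ) : Function.Bijective (cmp (X := X) q) := by
  haveI := Groth.Agent.QCohLoc.isQCoh_structureModule X
  have h := EtCmp.bijective_adjExtHom (EtZarCmp.zarAdj X) (cv X) q (EtCoh.Ga X) (fun i hi => by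
    obtain ⟨k, rfl⟩ : ∃ k, i = k + 1 := ⟨i - 1, by omega⟩
    exact isZero_rightDerived_resZar _ (isAssoc_Ga X) k)
  have h2 : Function.Bijective ((Ext.mk₀ zeta.hom).postcomp (cv X) (add_zero q) :
      Ext (cv X) ((lift X).obj (Coh.toAb (Coh.structureModule X))) q →+ _) := by
    refine Function.bijective_iff_has_inverse.2
      ⟨fun x => x.comp (Ext.mk₀ zeta.inv) (add_zero q), fun x => ?_, fun x => ?_⟩
    · show (x.comp (Ext.mk₀ zeta.hom) (add_zero q)).comp (Ext.mk₀ zeta.inv) (add_zero q) = x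
      rw [Ext.comp_assoc_of_third_deg_zero, Ext.mk₀_comp_mk₀, Iso.hom_inv_id, Ext.comp_mk₀_id]
    · show (x.comp (Ext.mk₀ zeta.inv) (add_zero q)).comp (Ext.mk₀ zeta.hom) (add_zero q) = x
      rw [Ext.comp_assoc_of_third_deg_zero, Ext.mk₀_comp_mk₀, Iso.inv_hom_id, Ext.comp_mk₀_id]
  exact ((EtZarCmp.extIsoLeft (EtZarCmp.pullConstIso X _) q).bijective.comp (h.comp h2)).comp (phi_bijective q _)

theorem adjExtHom_natural {F G : EtCoh.Ab X} (a : F ⟶ G) (n : ℕ)
    (x : Ext (cv X) ((EtZar.resZar X).obj F) n) :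
    EtCmp.adjExtHom (EtZarCmp.zarAdj X) (cv X) G n (x.comp (Ext.mk₀ ((EtZar.resZar X).map a)) (add_zero n)) =
      (EtCmp.adjExtHom (EtZarCmp.zarAdj X) (cv X) F n x).comp (Ext.mk₀ a) (add_zero n) := by
  rw [EtCmp.adjExtHom_apply, EtCmp.adjExtHom_apply, Ext.mapExactFunctor_comp, Ext.mapExactFunctor_mk₀,
    Ext.comp_assoc_of_third_deg_zero, Ext.comp_assoc_of_third_deg_zero, Ext.mk₀_comp_mk₀, Ext.mk₀_comp_mk₀]
  exact congrArg (fun t => (x.mapExactFunctor _).comp (Ext.mk₀ t) (add_zero n))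
    ((EtZarCmp.zarAdj X).counit.naturality a)

theorem cmp_smul (q : ℕ) (c : Γ(X, ⊤)) (x : Coh.HH X (Coh.structureModule X) q) :
    cmp q (Sheaf.H.map (Coh.smulAb (Coh.structureModule X) c) q x) =
      (EtCoh.HF X q).map (mulMap c) (cmp q x) := by
  show _ = (cmp q x).comp (Ext.mk₀ (mulMap c)) (add_zero q)
  show ((Ext.mk₀ _).comp (EtCmp.adjExtHom (EtZarCmp.zarAdj X) (cv X) (EtCoh.Ga X) q
    ((phi X _ q (x.comp (Ext.mk₀ _) (add_zero q))).comp (Ext.mk₀ zeta.hom) (add_zero q))) (zero_add q)) =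
    ((Ext.mk₀ _).comp (EtCmp.adjExtHom (EtZarCmp.zarAdj X) (cv X) (EtCoh.Ga X) q
      ((phi X _ q x).comp (Ext.mk₀ zeta.hom) (add_zero q))) (zero_add q)).comp (Ext.mk₀ (mulMap c)) (add_zero q)
  rw [phi_natural, Ext.comp_assoc_of_third_deg_zero, Ext.mk₀_comp_mk₀, zeta_natural, ← Ext.mk₀_comp_mk₀,
    ← Ext.comp_assoc_of_third_deg_zero, adjExtHom_natural]
  exact (Ext.comp_assoc_of_third_deg_zero _ _ _ _).symm

end Groth.Agent.EtASLib
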